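import Groth.Agent.Lib.UnifBound18.PullAt
import Groth.Agent.Lib.ModLimH13.Flat
import Groth.Agent.Lib.QuasiFlat.FlatOver
import Groth.Agent.Lib.LimFun.Basic
import Groth.Agent.Lib.ModLimH13.Quot
import Groth.Agent.Lib.TensorMod.PullSupport
import Groth.Agent.Lib.AdmBlowUp4.Product
import Groth.Agent.Lib.AdmBlowUp4.Ideals
import Groth.Agent.Lib.Fitting26.Sheaf
import Groth.Agent.S4887
import Groth.Agent.S8873

/-!
The isomorphism locus of a map of finitely presented modules onto a flat one, and its behaviour under base change.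
-/

set_option autoImplicit false
universe u

set_option backward.isDefEq.respectTransparency false
set_option backward.isDefEq.respectTransparency.types false

open CategoryTheory CategoryTheory.Limits AlgebraicGeometry TopologicalSpace

namespace Groth.Agent.IsoLocus4

variable {X : Scheme.{u}}

theorem isIso_iff_of_shortExact {S : ShortComplex X.Modules} (hS : S.ShortExact) :
    IsIso S.g ↔ CohB1.support S.X₁ = ∅ := by
  constructor
  · intro h
    exact LimFun.support_eq_empty_of_isZero (hS.isIso_g_iff.1 h)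
  · intro h
    exact hS.isIso_g_iff.2 (LimFun.isZero_of_support_eq_empty h)

theorem isCompact_compl_support [CompactSpace X] {M : X.Modules} (hM : CohB1.IsFP M) :
    IsCompact (CohB1.support M)ᶜ := by
  rw [← Fitting26.support_zero (M1.isFP_isQCoh hM) (M1.isFP_isFT hM)]
  exact AdmBlowUp4.isCompact_compl_support (S8873.result X M hM 0)

theorem main {S : Scheme.{u}} (f : X ⟶ S) [IsProper f] [LocallyOfFinitePresentation f]
    (F G : X.Modules) (hF : CohB1.IsFP F) (hG : CohB1.IsFP G) (hGfl : FlatMod.IsFlatOver f G) (φ : F ⟶ G) :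
    ∃ U : S.Opens, QuasiCompact U.ι ∧
      ∀ (T : Scheme.{u}) (t : T ⟶ S),
        IsIso ((Scheme.Modules.pullback (pullback.fst f t)).map φ) ↔ Set.range t.base ⊆ (U : Set S) := by
  classical
  have hFq := M1.isFP_isQCoh hF
  have hGq := M1.isFP_isQCoh hG
  let C := cokernel φ
  have hCq : Coh.IsQCoh C := M1.isQCoh_cokernel hFq hGq φ
  have hCt : CohB1.IsFT C := M1.isFT_of_epi (cokernel.π φ) (M1.isFP_isFT hG)
  let X₁ : X.Opens := ⟨(CohB1.support C)ᶜ, (M1.isClosed_support hCt).isOpen_compl⟩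
  let P := Scheme.Modules.pullback X₁.ι
  haveI : PreservesFiniteColimits P := KFlat.Sch.preservesFiniteColimits_pullback X₁.ι
  haveI := ModLimH13.preservesFiniteLimits_pullback_of_flat X₁.ι
  have hC₁ : IsZero (P.obj C) := LimFun.isZero_of_support_eq_empty (by
    rw [M2.support_pullback X₁.ι hCq hCt]
    exact Set.eq_empty_iff_forall_notMem.2 fun z hz => z.2 hz)
  haveI : Epi (P.map φ) :=
    Preadditive.epi_of_isZero_cokernel _ (hC₁.of_iso (PreservesCokernel.iso P φ).symm)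
  let F₁ := P.obj F
  let G₁ := P.obj G
  let K := kernel (P.map φ)
  haveI : Coh.IsQCoh F₁ := M1.isQCoh_pullback X₁.ι hFq
  haveI : Coh.IsQCoh G₁ := M1.isQCoh_pullback X₁.ι hGq
  have hG₁ : FlatMod.IsFlatOver (X₁.ι ≫ f) G₁ := fun x =>
    (QF.isFlatOverAt_pullback_iff X₁.ι f G x).2 (hGfl (X₁.ι x))
  have hK : CohB1.IsFP K := S4887.result (X₁.ι ≫ f) F₁ G₁ (M1.isFP_pullback _ hF) (M1.isFP_pullback _ hG) hG₁ (P.map φ)
  let O : X.Opens := X₁.ι ''ᵁ ⟨(CohB1.support K)ᶜ, (M1.isClosed_support (M1.isFP_isFT hK)).isOpen_compl⟩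
  let Ssq : ShortComplex (X₁ : Scheme.{u}).Modules := ShortComplex.mk (kernel.ι (P.map φ)) (P.map φ) (kernel.condition _)
  have hS : Ssq.ShortExact := ShortComplex.ShortExact.mk' (ShortComplex.exact_kernel _) inferInstance inferInstance
  have hZ : IsClosed ((O : Set X)ᶜ) := O.2.isClosed_compl
  let U : S.Opens := ⟨(f '' (O : Set X)ᶜ)ᶜ, (f.isClosedMap _ hZ).isOpen_compl⟩
  refine ⟨U, ?_, fun T t => ?_⟩
  · refine (quasiCompact_iff_forall_isAffineOpen).2 fun W hW => ?_
    rw [U.ι.isOpenEmbedding.isInducing.isCompact_iff]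
    have hEq : U.ι '' (U.ι ⁻¹ᵁ W : Set U) = (W : Set S) ∩ (U : Set S) := by
      rw [Scheme.Hom.coe_preimage, Set.image_preimage_eq_inter_range, Scheme.Opens.range_ι]
    rw [hEq]
    haveI : IsAffine W := hW
    let fW := f ∣_ W
    haveI : CompactSpace (f ⁻¹ᵁ W : Scheme.{u}) := QuasiCompact.compactSpace_of_compactSpace fW
    haveI : QuasiSeparatedSpace (f ⁻¹ᵁ W : Scheme.{u}) := quasiSeparatedSpace_of_quasiSeparated fW
    have hO : IsCompact ((f ⁻¹ᵁ W).ι ⁻¹' (O : Set X)) := by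
      have h1 : IsCompact ((f ⁻¹ᵁ W).ι ⁻¹' (X₁ : Set X)) := by
        have := isCompact_compl_support (X := (f ⁻¹ᵁ W : Scheme.{u})) (M1.isFP_pullback (f ⁻¹ᵁ W).ι
          (show CohB1.IsFP C from ModLimH13.isFP_cokernel hFq (M1.isFP_isFT hF) hG φ))
        rw [M2.support_pullback (f ⁻¹ᵁ W).ι hCq hCt] at this
        exact this
      let V : (f ⁻¹ᵁ W : Scheme.{u}).Opens := (f ⁻¹ᵁ W).ι ⁻¹ᵁ X₁
      haveI : CompactSpace V.toScheme := isCompact_iff_compactSpace.1 h1
      let l : V.toScheme ⟶ (X₁ : Scheme.{u}) := (f ⁻¹ᵁ W).ι ∣_ X₁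
      have h2 := isCompact_compl_support (M1.isFP_pullback l hK)
      rw [M2.support_pullback l (M1.isFP_isQCoh hK) (M1.isFP_isFT hK)] at h2
      convert h2.image V.ι.continuous using 1
      ext z
      constructor
      · rintro ⟨w, hw, hwz⟩
        refine ⟨⟨z, show (f ⁻¹ᵁ W).ι z ∈ X₁ from hwz ▸ w.2⟩, ?_, rfl⟩
        have : l ⟨z, show (f ⁻¹ᵁ W).ι z ∈ X₁ from hwz ▸ w.2⟩ = w := X₁.ι.isOpenEmbedding.injective (by
          rw [← Scheme.Hom.comp_apply, morphismRestrict_ι, Scheme.Hom.comp_apply]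
          exact hwz.symm)
        show l _ ∉ CohB1.support K
        rw [this]; exact hw
      · rintro ⟨w, hw, rfl⟩
        refine ⟨l w, hw, ?_⟩
        show X₁.ι (l w) = _
        rw [← Scheme.Hom.comp_apply, morphismRestrict_ι, Scheme.Hom.comp_apply]
    have h3 : Topology.IsConstructible ((f ⁻¹ᵁ W).ι ⁻¹' (O : Set X))ᶜ :=
      (hO.isConstructible ((f ⁻¹ᵁ W).ι ⁻¹ᵁ O).2).compl
    have h4 := (fW.isConstructible_image h3).compl
    have h5 := (AdmBlowUp4.isCompact_of_isConstructible h4).image W.ι.continuous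
    convert h5 using 1
    ext z
    constructor
    · rintro ⟨hzW, hzU⟩
      refine ⟨⟨z, hzW⟩, ?_, rfl⟩
      rintro ⟨y, hy, hyz⟩
      refine hzU ⟨(f ⁻¹ᵁ W).ι y, hy, ?_⟩
      rw [← Scheme.Hom.comp_apply, ← morphismRestrict_ι, Scheme.Hom.comp_apply, hyz]
      rfl
    · rintro ⟨w, hw, rfl⟩
      refine ⟨w.2, ?_⟩
      rintro ⟨y, hy, hyz⟩
      have hyW : f y ∈ W := hyz ▸ w.2
      refine hw ⟨⟨y, hyW⟩, hy, W.ι.isOpenEmbedding.injective ?_⟩
      rw [← Scheme.Hom.comp_apply, morphismRestrict_ι, Scheme.Hom.comp_apply]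
      exact hyz
  let g := pullback.fst f t
  have hU : Set.range t ⊆ (U : Set S) ↔ ∀ x, g x ∈ O := by
    constructor
    · intro h x
      by_contra hx
      refine h ⟨pullback.snd f t x, rfl⟩ ⟨g x, hx, ?_⟩
      rw [← Scheme.Hom.comp_apply, pullback.condition, Scheme.Hom.comp_apply]
    · rintro h _ ⟨y, rfl⟩ ⟨x, hx, hxy⟩
      obtain ⟨z, hz, -⟩ := Scheme.Pullback.exists_preimage_pullback x y hxy
      exact hx (hz ▸ h z)
  refine Iff.trans ?_ hU.symm
  have hlift : (∀ x, g x ∈ X₁) → ∃ g₁ : pullback f t ⟶ (X₁ : Scheme.{u}), g₁ ≫ X₁.ι = g ∧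
      IsPullback g₁ (pullback.snd f t) (X₁.ι ≫ f) t := by
    intro h
    have hr : Set.range g ⊆ Set.range X₁.ι := by
      rw [Scheme.Opens.range_ι]; rintro _ ⟨x, rfl⟩; exact h x
    let g₁ := IsOpenImmersion.lift X₁.ι g hr
    have hg₁ : g₁ ≫ X₁.ι = g := IsOpenImmersion.lift_fac _ _ _
    refine ⟨g₁, hg₁, IsPullback.of_isLimit' ⟨by rw [reassoc_of% hg₁, pullback.condition]⟩
      (PullbackCone.IsLimit.mk _ (fun s => pullback.lift (s.fst ≫ X₁.ι) s.snd (by rw [Category.assoc, s.condition]))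
        (fun s => ?_) (fun s => ?_) fun s m h1 h2 => ?_)⟩
    · rw [← cancel_mono X₁.ι, Category.assoc, hg₁, pullback.lift_fst]
    · exact pullback.lift_snd _ _ _
    · apply pullback.hom_ext
      · rw [pullback.lift_fst]
        show m ≫ g = _
        rw [← hg₁, ← Category.assoc, h1]
      · rw [pullback.lift_snd]; exact h2
  have key : ∀ g₁ : pullback f t ⟶ (X₁ : Scheme.{u}), g₁ ≫ X₁.ι = g →
      IsPullback g₁ (pullback.snd f t) (X₁.ι ≫ f) t →
      (IsIso ((Scheme.Modules.pullback g).map φ) ↔ ∀ x, g₁ x ∉ CohB1.support K) := by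
    intro g₁ hg₁ hpb
    have hS' := UnifBound18.shortExact_pullback_flatAt hpb hS (fun x => hG₁ (g₁ x))
    have h1 : IsIso ((Scheme.Modules.pullback g₁).map (P.map φ)) ↔ IsIso ((Scheme.Modules.pullback g).map φ) := by
      refine Iff.trans ?_ (NatIso.isIso_map_iff (Scheme.Modules.pullbackCongr hg₁) φ)
      exact NatIso.isIso_map_iff (Scheme.Modules.pullbackComp g₁ X₁.ι) φ
    refine h1.symm.trans ((isIso_iff_of_shortExact hS').trans ?_)
    show CohB1.support ((Scheme.Modules.pullback g₁).obj K) = ∅ ↔ _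
    rw [M2.support_pullback g₁ (M1.isFP_isQCoh hK) (M1.isFP_isFT hK), Set.eq_empty_iff_forall_notMem]
    rfl
  constructor
  · intro h x
    haveI : PreservesFiniteColimits (Scheme.Modules.pullback g) := KFlat.Sch.preservesFiniteColimits_pullback g
    have hgC : ∀ x, g x ∈ X₁ := by
      have h0 : IsZero ((Scheme.Modules.pullback g).obj C) :=
        (isZero_cokernel_of_epi ((Scheme.Modules.pullback g).map φ)).of_iso (PreservesCokernel.iso _ φ)
      have := LimFun.support_eq_empty_of_isZero h0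
      rw [M2.support_pullback g hCq hCt] at this
      exact fun x hx => Set.eq_empty_iff_forall_notMem.1 this x hx
    obtain ⟨g₁, hg₁, hpb⟩ := hlift hgC
    refine ⟨g₁ x, (key g₁ hg₁ hpb).1 h x, ?_⟩
    show X₁.ι (g₁ x) = g x
    rw [← Scheme.Hom.comp_apply, hg₁]
  · intro h
    obtain ⟨g₁, hg₁, hpb⟩ := hlift fun x => by
      obtain ⟨w, -, hw⟩ := h x
      exact hw ▸ w.2
    refine (key g₁ hg₁ hpb).2 fun x => ?_
    obtain ⟨w, hw, hwx⟩ := h x
    have : w = g₁ x := X₁.ι.isOpenEmbedding.injective (hwx.trans (by show g x = X₁.ι (g₁ x); rw [← Scheme.Hom.comp_apply, hg₁]))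
    exact this ▸ hw

end Groth.Agent.IsoLocus4
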